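import Cfsg.Agent.Lib.GTwoSyl.Model
import Cfsg.Agent.Lib.Chev.G2Invol.Main
import Cfsg.Agent.S1059

/-!
A Sylow 2-subgroup of the Chevalley group `G₂(q)`, `q` odd, is isomorphic to some `GT k`.
-/

set_option autoImplicit false
set_option linter.style.haveILetI false
set_option linter.unusedSectionVars false
set_option maxRecDepth 100000

namespace CfsgLib.GTwoSyl

open Cfsg.Lie Matrix CfsgLib.Chev CfsgLib.Chev.G2Invol
open scoped MatrixGroups

variable {F : Type*} [Field F]

/-! ### The torus element -/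

theorem pairing_ten : tabG2.pairing 10 7 = 1 ∧ tabG2.pairing 10 11 = 1 ∧ tabG2.pairing 10 4 = -1 ∧
    tabG2.pairing 10 0 = -1 := by decide +kernel

theorem pairing_sum : ∀ r < 12, tabG2.pairing 7 r + tabG2.pairing 11 r = 2 * tabG2.pairing 10 r := by
  decide +kernel

theorem sends_hU {a s : ℕ} (ha : a < 12) (hs : s < 12) {t : F} (ht : t ≠ 0) :
    Sends (hU chevG2 a t) s s (t ^ tabG2.pairing a s) := by
  intro u
  rw [mul_inv_eq_iff_eq_mul]
  refine Units.ext ?_
  rw [Units.val_mul, Units.val_mul, certG2.coe_X, certG2.coe_X, certG2.hU_root (ha.trans_eq nG2.symm) ht,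
    certG2.torus_mul_x (certG2.isChar_charOf fun i _ => zpow_ne_zero _ ht) (hs.trans_eq nG2.symm),
    Cert.charOf_cor a ht]

theorem hU_mul {a : ℕ} (ha : a < 12) {t t' : F} (ht : t ≠ 0) (ht' : t' ≠ 0) :
    hU chevG2 a (t * t') = hU chevG2 a t * hU chevG2 a t' := by
  have hm : ∀ {x : F}, x ≠ 0 → hU chevG2 a x ∈ chevG2.diagonalSubgroup F := fun hx =>
    certG2.hU_mem (ha.trans_eq nG2.symm) hx
  refine diag_ext (hm (mul_ne_zero ht ht')) (mul_mem (hm ht) (hm ht')) fun r hr => ?_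
  exact ⟨_, sends_hU ha hr (mul_ne_zero ht ht'),
    by rw [mul_zpow]; exact (sends_hU ha hr ht').mul (sends_hU ha hr ht)⟩

theorem hU_one {a : ℕ} (ha : a < 12) : hU chevG2 a (1 : F) = 1 := by
  refine diag_ext (certG2.hU_mem (ha.trans_eq nG2.symm) one_ne_zero) (one_mem _) fun r hr => ⟨1, ?_, sends_one r⟩
  simpa using sends_hU ha hr (one_ne_zero (α := F))

theorem hU10_mem {t : F} (ht : t ≠ 0) : hU chevG2 10 t ∈ chevG2.group F :=
  certG2.diagonal_le_group (certG2.hU_mem (by rw [nG2]; norm_num) ht)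

theorem val_mul (a b : SL(2, F)) (i j : Fin 2) :
    (a * b).1 i j = a.1 i 0 * b.1 0 j + a.1 i 1 * b.1 1 j := by
  show (a.1 * b.1) i j = _
  simp [Matrix.mul_apply, Fin.sum_univ_two]

/-- Dilation, as a function. -/
def dilFun (t : F) (ht : t ≠ 0) (g : SL(2, F)) : SL(2, F) :=
  ⟨!![g.1 0 0, t * g.1 0 1; g.1 1 0 / t, g.1 1 1], by
    have := SL2Pair.det_eq g
    rw [det_fin_two_of]; field_simp; linear_combination this⟩

theorem dilFun_val (t : F) (ht : t ≠ 0) (g : SL(2, F)) :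
    (dilFun t ht g).1 = !![g.1 0 0, t * g.1 0 1; g.1 1 0 / t, g.1 1 1] := rfl

/-- Dilation of `SL₂`. -/
def dil (t : F) (ht : t ≠ 0) : SL(2, F) →* SL(2, F) :=
  MonoidHom.mk' (dilFun t ht) (fun g g' => Subtype.ext (by
    ext i j
    fin_cases i <;> fin_cases j <;> simp [dilFun_val, val_mul] <;> field_simp))

theorem dil_val (t : F) (ht : t ≠ 0) (g : SL(2, F)) :
    (dil t ht g).1 = !![g.1 0 0, t * g.1 0 1; g.1 1 0 / t, g.1 1 1] := rfl

theorem hU_conj_phi {a : ℕ} (ha : a ∈ [7, 11]) {t : F} (ht : t ≠ 0) (g : SL(2, F)) :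
    hU chevG2 10 t * phi a g * (hU chevG2 10 t)⁻¹ = phi a (dil t ht g) := by
  have hp : tabG2.pairing 10 a = 1 ∧ tabG2.pairing 10 (11 - a) = -1 := by
    fin_cases ha
    · exact ⟨pairing_ten.1, pairing_ten.2.2.1⟩
    · exact ⟨pairing_ten.2.1, pairing_ten.2.2.2⟩
  have h : (MulAut.conj (hU chevG2 10 t)).toMonoidHom.comp (phi a) = (phi a).comp (dil t ht) := by
    refine hom_ext (fun u => ?_) (fun u => ?_)
    · show hU chevG2 10 t * phi a (eU u) * (hU chevG2 10 t)⁻¹ = phi a (dil t ht (eU u))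
      rw [show dil t ht (eU u) = eU (t * u) from Subtype.ext (by
        ext i j; fin_cases i <;> fin_cases j <;> simp [dil_val, eU_val]), phi_eU (pair_lt ha), phi_eU (pair_lt ha)]
      have := sends_hU (a := 10) (by norm_num) (pair_lt ha) ht u
      rwa [hp.1, zpow_one] at this
    · show hU chevG2 10 t * phi a (eL u) * (hU chevG2 10 t)⁻¹ = phi a (dil t ht (eL u))
      rw [show dil t ht (eL u) = eL (t⁻¹ * u) from Subtype.ext (by
        ext i j; fin_cases i <;> fin_cases j <;> simp [dil_val, eL_val, div_eq_inv_mul]), phi_eL (pair_lt ha),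
        phi_eL (pair_lt ha)]
      have := sends_hU (a := 10) (s := 11 - a) (by norm_num) (by omega) ht u
      rwa [hp.2, _root_.zpow_neg_one] at this
  exact DFunLike.congr_fun h g

/-- The diagonal element of `SL₂`. -/
def diagSL (t : F) (ht : t ≠ 0) : SL(2, F) :=
  ⟨!![t, 0; 0, t⁻¹], by rw [det_fin_two_of]; field_simp; ring⟩

theorem phi_diag {a : ℕ} (ha : a < 12) {t : F} (ht : t ≠ 0) : phi a (diagSL t ht) = hU chevG2 a t := by
  have e : diagSL t ht = eU t * eL (-t⁻¹) * eU t * (eU (-1) * eL 1 * eU (-1)) := by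
    refine Subtype.ext ?_
    simp only [Matrix.SpecialLinearGroup.coe_mul, eU_val, eL_val, diagSL]
    ext i j
    fin_cases i <;> fin_cases j <;> simp [Matrix.mul_apply, Fin.sum_univ_two] <;> field_simp <;> simp
  rw [e, hU, nU, nU, certG2.agrees.neg_eq (ha.trans_eq nG2.symm), negG2]
  simp only [map_mul, phi_eU ha, phi_eL ha]
  norm_num

/-! ### Pairs of matrices with equal determinants -/

/-- The pairs. -/
def DetPairs (F : Type*) [Field F] : Subgroup (GL (Fin 2) F × GL (Fin 2) F) :=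
  MonoidHom.eqLocus (Matrix.GeneralLinearGroup.det.comp (MonoidHom.fst _ _))
    (Matrix.GeneralLinearGroup.det.comp (MonoidHom.snd _ _))

/-- The determinant as a scalar. -/
def dt (A : GL (Fin 2) F) : F := (A : Matrix (Fin 2) (Fin 2) F).det

theorem dt_ne (A : GL (Fin 2) F) : dt A ≠ 0 :=
  ((Matrix.isUnit_iff_isUnit_det _).1 A.isUnit).ne_zero

theorem dt_mul (A B : GL (Fin 2) F) : dt (A * B) = dt A * dt B := by
  rw [dt, Units.val_mul, det_mul]; rfl

theorem dt_pair (p : DetPairs F) : dt p.1.1 = dt p.1.2 := congrArg Units.val p.2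

/-- The `SL₂` part. -/
def slPart (A : GL (Fin 2) F) : SL(2, F) :=
  ⟨!![A.1 0 0 / dt A, A.1 0 1; A.1 1 0 / dt A, A.1 1 1], by
    have h := dt_ne A
    rw [det_fin_two_of]; field_simp
    rw [dt, det_fin_two]⟩

theorem slPart_val (A : GL (Fin 2) F) :
    (slPart A).1 = !![A.1 0 0 / dt A, A.1 0 1; A.1 1 0 / dt A, A.1 1 1] := rfl

theorem slPart_mul (A B : GL (Fin 2) F) :
    slPart (A * B) = slPart A * dil (dt A) (dt_ne A) (slPart B) := by
  have h := dt_ne A
  have h' := dt_ne B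
  refine Subtype.ext ?_
  ext i j
  fin_cases i <;> fin_cases j <;>
    simp [slPart_val, dil_val, val_mul, dt_mul, Matrix.mul_apply, Fin.sum_univ_two] <;> field_simp <;> ring

/-- The underlying value. -/
noncomputable def psi0 (p : DetPairs F) : GL chevG2.Idx F :=
  phi 7 (slPart p.1.1) * phi 11 (slPart p.1.2) * hU chevG2 10 (dt p.1.1)

theorem psi0_mem (p : DetPairs F) : psi0 p ∈ chevG2.group F :=
  mul_mem (mul_mem (phi_mem_group (by norm_num) _) (phi_mem_group (by norm_num) _)) (hU10_mem (dt_ne _))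

theorem psi0_mul (p q : DetPairs F) : psi0 (p * q) = psi0 p * psi0 q := by
  simp only [psi0]
  rw [show ((p * q : DetPairs F) : GL (Fin 2) F × GL (Fin 2) F).1 = p.1.1 * q.1.1 from rfl,
    show ((p * q : DetPairs F) : GL (Fin 2) F × GL (Fin 2) F).2 = p.1.2 * q.1.2 from rfl,
    slPart_mul, slPart_mul, dt_mul, hU_mul (by norm_num) (dt_ne _) (dt_ne _), map_mul, map_mul]
  have h2 : dil (dt p.1.2) (dt_ne _) (slPart q.1.2) = dil (dt p.1.1) (dt_ne _) (slPart q.1.2) :=
    (show ∀ (s s' : F) (hs : s ≠ 0) (hs' : s' ≠ 0), s = s' → dil s hs (slPart q.1.2) = dil s' hs' (slPart q.1.2)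
      by rintro s _ hs hs' rfl; rfl) _ _ _ _ (dt_pair p).symm
  rw [h2]
  rw [← hU_conj_phi (a := 7) (by simp) (dt_ne _), ← hU_conj_phi (a := 11) (by simp) (dt_ne _)]
  set H := hU chevG2 10 (dt p.1.1)
  set a := phi 7 (slPart p.1.1)
  set b := phi 11 (slPart p.1.2)
  have hc : b * (H * phi 7 (slPart q.1.1) * H⁻¹) = (H * phi 7 (slPart q.1.1) * H⁻¹) * b := by
    rw [hU_conj_phi (a := 7) (by simp) (dt_ne _)]
    exact (phi_commute _ _).eq.symm
  calc a * (H * phi 7 (slPart q.1.1) * H⁻¹) * (b * (H * phi 11 (slPart q.1.2) * H⁻¹)) *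
        (H * hU chevG2 10 (dt q.1.1)) =
      a * ((H * phi 7 (slPart q.1.1) * H⁻¹) * b) * H * phi 11 (slPart q.1.2) * hU chevG2 10 (dt q.1.1) := by
        group
    _ = a * (b * (H * phi 7 (slPart q.1.1) * H⁻¹)) * H * phi 11 (slPart q.1.2) *
        hU chevG2 10 (dt q.1.1) := by rw [hc]
    _ = _ := by group

/-- The homomorphism of pairs. -/
noncomputable def psiG : DetPairs F →* ↥(chevG2.group F) :=
  MonoidHom.mk' (fun p => ⟨psi0 p, psi0_mem p⟩) fun p q => Subtype.ext (psi0_mul p q)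

/-- Equal scalar pairs die. -/
theorem psiG_scalar {p : DetPairs F} {t : F} (h1 : (p.1.1 : Matrix (Fin 2) (Fin 2) F) = t • 1)
    (h2 : (p.1.2 : Matrix (Fin 2) (Fin 2) F) = t • 1) : psiG p = 1 := by
  have hd : dt p.1.1 = t * t := by rw [dt, h1, det_smul, det_one, Fintype.card_fin]; ring
  have ht : t ≠ 0 := fun e => dt_ne p.1.1 (by rw [hd, e, mul_zero])
  have hs : ∀ A : GL (Fin 2) F, (A : Matrix (Fin 2) (Fin 2) F) = t • 1 →
      slPart A = diagSL t⁻¹ (inv_ne_zero ht) := by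
    intro A hA
    have hdA : dt A = t * t := by rw [dt, hA, det_smul, det_one, Fintype.card_fin]; ring
    refine Subtype.ext ?_
    ext i j
    fin_cases i <;> fin_cases j <;> simp [slPart, diagSL, hdA, hA] <;> field_simp
  refine Subtype.ext ?_
  show psi0 p = 1
  rw [psi0, hs _ h1, hs _ h2, phi_diag (by norm_num), phi_diag (by norm_num), hd]
  have hti := inv_ne_zero ht
  have htt := mul_ne_zero ht ht
  have hm : ∀ {a : ℕ} {x : F}, a < 12 → x ≠ 0 → hU chevG2 a x ∈ chevG2.diagonalSubgroup F := fun ha hx =>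
    certG2.hU_mem (ha.trans_eq nG2.symm) hx
  refine diag_ext (mul_mem (mul_mem (hm (by norm_num) hti) (hm (by norm_num) hti)) (hm (by norm_num) htt))
    (one_mem _) fun r hr => ⟨1, ?_, sends_one r⟩
  have := (sends_hU (a := 10) (by norm_num) hr htt).mul
    ((sends_hU (a := 11) (by norm_num) hr hti).mul (sends_hU (a := 7) (by norm_num) hr hti))
  convert this using 1
  rw [_root_.inv_zpow, _root_.inv_zpow, ← mul_inv, ← zpow_add₀ ht, pairing_sum r hr, mul_zpow, ← zpow_add₀ ht,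
    ← two_mul, inv_mul_cancel₀ (zpow_ne_zero _ ht)]

/-! ### A quaternion pair in `SL₂` -/

theorem eq_neg_one_of_sq {x : SL(2, F)} (h2 : (2 : F) ≠ 0) (hx : x * x = 1) (hx1 : x ≠ 1) : x = -1 := by
  have hinv : x⁻¹ = x := inv_eq_of_mul_eq_one_right hx
  have e : x.1.adjugate = x.1 := (Matrix.SpecialLinearGroup.coe_inv x).symm.trans (congrArg Subtype.val hinv)
  rw [adjugate_fin_two] at e
  have e00 := congrFun (congrFun e 0) 0
  have e01 := congrFun (congrFun e 0) 1
  have e10 := congrFun (congrFun e 1) 0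
  simp at e00 e01 e10
  have hb : x.1 0 1 = 0 := by
    have : (2 : F) * x.1 0 1 = 0 := by linear_combination -e01
    exact (mul_eq_zero.1 this).resolve_left h2
  have hc : x.1 1 0 = 0 := by
    have : (2 : F) * x.1 1 0 = 0 := by linear_combination -e10
    exact (mul_eq_zero.1 this).resolve_left h2
  have hdet := SL2Pair.det_eq x
  rw [hb, hc, zero_mul, sub_zero, e00] at hdet
  rcases mul_self_eq_one_iff.1 hdet with h | h
  · refine absurd (Subtype.ext ?_) hx1
    ext i j; fin_cases i <;> fin_cases j <;> simp [h, hb, hc, e00]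
  · refine Subtype.ext ?_
    ext i j; fin_cases i <;> fin_cases j <;> simp [h, hb, hc, e00]

theorem exists_quaternion_pair [Fintype F] (hodd : Odd (Fintype.card F)) :
    ∃ k : ℕ, ∃ c w : SL(2, F), c ^ (2 * 2 ^ k) = -1 ∧ w * w = -1 ∧ w * c * w⁻¹ = c⁻¹ ∧ c ≠ -1 ∧
      (Fintype.card F ^ 2 - 1).factorization 2 = k + 3 := by
  classical
  haveI := Fact.mk Nat.prime_two
  have h2 : (2 : F) ≠ 0 := G2Invol.two_ne_zero_of_odd (Nat.odd_iff.1 hodd)
  obtain ⟨P⟩ : Nonempty (Sylow 2 SL(2, F)) := inferInstance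
  obtain ⟨k', hk', ⟨e⟩⟩ := CfsgLib.SL2.sylow_two_quaternion (by rwa [Nat.card_eq_fintype_card]) P
  obtain ⟨k, rfl⟩ : ∃ k, k' = k + 1 := ⟨k' - 1, by omega⟩
  haveI : NeZero (2 ^ (k + 1)) := ⟨by positivity⟩
  let j : QuaternionGroup (2 ^ (k + 1)) →* SL(2, F) := (P : Subgroup SL(2, F)).subtype.comp e.symm.toMonoidHom
  have hj : Function.Injective j := (Subgroup.subtype_injective _).comp e.symm.injective
  have hone : j (QuaternionGroup.a (2 ^ (k + 1) : ℕ)) = -1 := by
    refine eq_neg_one_of_sq h2 ?_ fun h => ?_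
    · rw [← map_mul, QuaternionGroup.a_mul_a, ← Nat.cast_add, ← two_mul, ZMod.natCast_self,
        ← QuaternionGroup.one_def, map_one]
    · rw [← j.map_one] at h
      have h' := hj h
      rw [QuaternionGroup.one_def, QuaternionGroup.a.injEq, ZMod.natCast_eq_zero_iff] at h'
      have := Nat.le_of_dvd (by positivity) h'
      have : 0 < 2 ^ (k + 1) := by positivity
      omega
  refine ⟨k, j (QuaternionGroup.a 1), j (QuaternionGroup.xa 0), ?_, ?_, ?_, fun h => ?_, ?_⟩
  · rw [← map_pow, QuaternionGroup.a_one_pow, show 2 * 2 ^ k = 2 ^ (k + 1) by ring, hone]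
  · rw [← map_mul, QuaternionGroup.xa_mul_xa, add_sub_cancel_right, hone]
  · rw [mul_inv_eq_iff_eq_mul, ← map_inv, ← map_mul, ← map_mul]
    refine congrArg j ?_
    show _ = QuaternionGroup.a (-(1 : ZMod _)) * _
    rw [QuaternionGroup.xa_mul_a, QuaternionGroup.a_mul_xa]
    congr 1
    ring
  · rw [← hone] at h
    have h' := hj h
    rw [QuaternionGroup.a.injEq] at h'
    replace h' := (ZMod.natCast_eq_natCast_iff' 1 (2 ^ (k + 1)) (2 * 2 ^ (k + 1))).1 (by
      rw [Nat.cast_one]; exact h')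
    have : 2 ≤ 2 ^ (k + 1) := le_self_pow₀ (by norm_num) (by omega)
    rw [Nat.mod_eq_of_lt (by omega), Nat.mod_eq_of_lt (by omega)] at h'
    omega
  · have h := P.card_eq_multiplicity
    rw [Nat.card_congr e.toEquiv, Nat.card_eq_fintype_card (α := QuaternionGroup _), QuaternionGroup.card,
      CfsgLib.SL2.card_SL_two', Nat.card_eq_fintype_card (α := F), show (4 : ℕ) = 2 ^ 2 by norm_num,
      ← pow_add] at h
    have h' := Nat.pow_right_injective (le_refl 2) h
    have hq1 : 1 < Fintype.card F := Fintype.one_lt_card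
    rw [mul_comm (Fintype.card F - 1), ← Nat.sq_sub_sq, one_pow,
      Nat.factorization_mul (by omega) (by
        have : 1 < Fintype.card F ^ 2 := Nat.one_lt_pow (by norm_num) hq1
        omega), Finsupp.add_apply,
      Nat.factorization_eq_zero_of_not_dvd (fun h => Nat.not_even_iff_odd.2 hodd (even_iff_two_dvd.2 h))] at h'
    omega

end CfsgLib.GTwoSyl
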