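import Cfsg.Agent.Lib.GTwoSyl.Model
import Cfsg.Agent.Lib.Transfer.Thompson
import Cfsg.Agent.Lib.M12Syl.SylIn
import Cfsg.Agent.S0215

/-!
Involution classes of a simple group with Sylow 2-subgroup `GT k`.
-/

set_option autoImplicit false
set_option linter.style.haveILetI false
set_option linter.unusedSectionVars false

namespace CfsgLib.GTwoSyl

open GT

variable {k : ℕ}

/-- A bit as a scalar. -/
def b2z (b : Bool) : ZMod 2 := if b then 1 else 0

theorem b2z_xor (a b : Bool) : b2z (a ^^ b) = b2z a + b2z b := by cases a <;> cases b <;> decide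

/-- The linear characters of order two. -/
def lin (a b c : ZMod 2) : GT k →* Multiplicative (ZMod 2) :=
  MonoidHom.mk' (fun g => Multiplicative.ofAdd (a * (par k g.x + par k g.y) + b * b2z g.e + c * b2z g.d))
    (fun g h => by
      rw [← ofAdd_add]
      refine congrArg _ ?_
      rw [mul_def, b2z_xor, b2z_xor]
      rcases g with ⟨x, y, e, d⟩
      cases e <;> cases d <;> simp [sg, map_neg, CharTwo.neg_eq] <;> ring)

theorem lin_eq_one {a b c : ZMod 2} {g : GT k} :
    lin a b c g = 1 ↔ a * (par k g.x + par k g.y) + b * b2z g.e + c * b2z g.d = 0 :=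
  Multiplicative.ofAdd.injective.eq_iff' rfl

theorem hh_double : hh k = ((2 ^ k : ℕ) : Rk k) + ((2 ^ k : ℕ) : Rk k) := by
  rw [hh]; push_cast; ring

theorem Z_ne_one : (Z : GT k) ≠ 1 := fun h => hh_ne (congrArg GT.x h)

theorem Z_sq : (Z : GT k) * Z = 1 := by rw [Z, A_mul, hh_add]; rfl

theorem Z_central (g : GT k) : g * Z = Z * g := by
  rcases g with ⟨x, y, e, d⟩
  cases e <;> cases d <;> simp [mul_def, Z, A, sg, neg_hh, add_comm]

theorem not_comm : ¬ ∀ g h : GT k, g * h = h * g := by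
  intro h
  rcases GT.center_eq (g := (A 1 0 : GT k)) (fun u => h _ _) with e | e
  · have := congrArg (par k) (congrArg GT.x e)
    simp [A, one_def] at this
  · have := congrArg (par k) (congrArg GT.x e)
    simp [A, Z, par_hh] at this

/-- The non-trivial elements `A(x,y)` with `2x = 2y = 0`. -/
def InOm (u : GT k) : Prop := u = Z ∨ u = A (hh k) 0 ∨ u = A 0 (hh k)

/-- The shapes of the involutions. -/
theorem shapes {u : GT k} (h2 : u * u = 1) (h1 : u ≠ 1) :
    InOm u ∨ (u.e = true ∧ u.d = false) ∨ (u.e = false ∧ u.d = true ∧ u.y = -u.x) ∨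
      (u.e = true ∧ u.d = true ∧ u.y = u.x) := by
  rcases u with ⟨x, y, e, d⟩
  cases e <;> cases d <;> simp [mul_def, one_def, sg] at h2 h1 ⊢
  · rcases two_tors.1 h2.1 with rfl | rfl <;> rcases two_tors.1 h2.2 with rfl | rfl
    · simp at h1
    · exact Or.inr (Or.inr rfl)
    · exact Or.inr (Or.inl rfl)
    · exact Or.inl rfl
  · exact Or.inr (by linear_combination h2.1)
  · exact Or.inr (by linear_combination -h2.1)

theorem par_sum_zero {x y : Rk k} (h : par k x + par k y = 0) : ∃ w, x + -y = w + w := by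
  refine par_eq_zero.1 ?_
  rw [map_add, map_neg, CharTwo.neg_eq]; exact h

/-- Commutator witnesses. -/
theorem witness_i {x y : Rk k} (h : par k x + par k y = 0) :
    ∃ v1 v2 : GT k, v1 * ⟨x, y, true, false⟩ = ⟨x, y, true, false⟩ * v1 ∧
      v2 * ⟨x, y, true, false⟩ = ⟨x, y, true, false⟩ * v2 ∧ v1 * v2 * v1⁻¹ * v2⁻¹ = Z := by
  obtain ⟨w, hw⟩ := par_sum_zero h
  refine ⟨A (hh k) 0, ⟨w, -w, false, true⟩, ?_, ?_, ?_⟩
  · simp [mul_def, A, sg, neg_hh, add_comm]
  · simp only [mul_def, sg, GT.mk.injEq]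
    refine ⟨?_, ?_, rfl, rfl⟩ <;> simp
    · linear_combination -hw
    · linear_combination hw
  · simp [mul_def, A, Z, sg, Inv.inv, neg_hh]

theorem witness_s {x : Rk k} :
    ∃ v1 v2 : GT k, v1 * ⟨x, -x, false, true⟩ = ⟨x, -x, false, true⟩ * v1 ∧
      v2 * ⟨x, -x, false, true⟩ = ⟨x, -x, false, true⟩ * v2 ∧ v1 * v2 * v1⁻¹ * v2⁻¹ = Z := by
  refine ⟨A ((2 ^ k : ℕ) : Rk k) ((2 ^ k : ℕ) : Rk k), ⟨x + x, 0, true, false⟩, ?_, ?_, ?_⟩
  · simp [mul_def, A, sg, add_comm]
  · simp [mul_def, sg]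
  · simp [mul_def, A, Z, sg, Inv.inv, hh_double]
    ring

theorem witness_is {x : Rk k} :
    ∃ v1 v2 : GT k, v1 * ⟨x, x, true, true⟩ = ⟨x, x, true, true⟩ * v1 ∧
      v2 * ⟨x, x, true, true⟩ = ⟨x, x, true, true⟩ * v2 ∧ v1 * v2 * v1⁻¹ * v2⁻¹ = Z := by
  refine ⟨A ((2 ^ k : ℕ) : Rk k) (-((2 ^ k : ℕ) : Rk k)), ⟨x + x, 0, true, false⟩, ?_, ?_, ?_⟩
  · simp [mul_def, A, sg, add_comm]
  · simp [mul_def, sg]
  · have := neg_hh (k := k)
    simp [mul_def, A, Z, sg, Inv.inv, hh_double] at this ⊢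
    exact ⟨by ring, this⟩

/-- The centraliser of an `i`-type involution with odd parity sum. -/
theorem cent_odd {x y : Rk k} (h : par k x + par k y ≠ 0) {v : GT k}
    (hv : v * ⟨x, y, true, false⟩ = ⟨x, y, true, false⟩ * v) :
    v.d = false ∧ ((v.e = false ∧ v.x + v.x = 0 ∧ v.y + v.y = 0) ∨
      (v.e = true ∧ (v.x - x) + (v.x - x) = 0 ∧ (v.y - y) + (v.y - y) = 0)) := by
  rcases v with ⟨a, b, e, d⟩
  cases e <;> cases d <;> simp [mul_def, sg] at hv ⊢
  · exact ⟨by linear_combination hv.1, by linear_combination hv.2⟩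
  · exact h (by
      rw [← CharTwo.neg_eq (par k y), ← map_neg, ← map_add, par_eq_zero]
      exact ⟨a, by linear_combination -hv.1⟩)
  · exact ⟨by linear_combination hv.1, by linear_combination hv.2⟩
  · exact h (by
      rw [← map_add, par_eq_zero]
      exact ⟨a, by linear_combination -hv.1⟩)

/-- That centraliser is commutative. -/
theorem cent_odd_comm {x y : Rk k} (h : par k x + par k y ≠ 0) {v w : GT k}
    (hv : v * ⟨x, y, true, false⟩ = ⟨x, y, true, false⟩ * v)
    (hw : w * ⟨x, y, true, false⟩ = ⟨x, y, true, false⟩ * w) : v * w = w * v := by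
  obtain ⟨hd, hv'⟩ := cent_odd h hv
  obtain ⟨hd', hw'⟩ := cent_odd h hw
  rcases v with ⟨a, b, e, d⟩
  rcases w with ⟨a', b', e', d'⟩
  simp only at hd hd' hv' hw'
  subst hd hd'
  rcases hv' with ⟨rfl, h1, h2⟩ | ⟨rfl, h1, h2⟩ <;> rcases hw' with ⟨rfl, h3, h4⟩ | ⟨rfl, h3, h4⟩ <;>
    simp only [mul_def, sg, GT.mk.injEq] <;> simp <;> constructor
  · ring
  · ring
  · linear_combination h1
  · linear_combination h2
  · linear_combination -h3
  · linear_combination -h4
  · linear_combination h1 - h3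
  · linear_combination h2 - h4

/-- Exponent four in the centraliser of an `i`-type involution. -/
theorem cent_pow_four {x y : Rk k} {v : GT k}
    (hv : v * ⟨x, y, true, false⟩ = ⟨x, y, true, false⟩ * v) : v * v * (v * v) = 1 := by
  rcases v with ⟨a, b, e, d⟩
  cases e <;> cases d <;> simp [mul_def, one_def, sg] at hv ⊢
  · exact ⟨by linear_combination 2 * hv.1, by linear_combination 2 * hv.2⟩
  · exact ⟨by linear_combination hv.1 + hv.2, by linear_combination hv.1 + hv.2⟩
  · exact ⟨by linear_combination hv.1 - hv.2, by linear_combination hv.2 - hv.1⟩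

section Group

variable {G : Type*} [Group G] [Finite G] [IsSimpleGroup G] (P : Sylow 2 G)
  (f : GT k →* G) (hf : Function.Injective f) (hr : f.range = (P : Subgroup G))
include hf hr

theorem not_comm_group : ¬ ∀ a b : G, a * b = b * a := fun h =>
  not_comm (k := k) fun u v => hf (by rw [map_mul, map_mul, h])

theorem exists_pre {g : G} (hg : g ∈ (P : Subgroup G)) : ∃ u, f u = g := by
  rw [← hr] at hg; exact hg

theorem mem_syl (u : GT k) : f u ∈ (P : Subgroup G) := hr ▸ ⟨u, rfl⟩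

/-- The strong form of the transfer lemma. -/
theorem step {u : GT k} (hu : u * u = 1) (L : GT k →* Multiplicative (ZMod 2)) (hL : L u ≠ 1) :
    ∃ a : G, ∃ w : GT k, L w = 1 ∧ w * w = 1 ∧ w ≠ 1 ∧ f w = a⁻¹ * f u * a ∧
      ∀ v : GT k, v * u = u * v → ∃ v', f v' = a⁻¹ * f v * a := by
  let g : GT k ≃* ↥(P : Subgroup G) := (MonoidHom.ofInjective hf).trans (MulEquiv.subgroupCongr hr)
  have hg : ∀ v, ((g v : ↥(P : Subgroup G)) : G) = f v := fun v => rfl
  let φ : ↥(P : Subgroup G) →* Multiplicative (ZMod 2) := L.comp g.symm.toMonoidHom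
  have hA : ∀ a b : Multiplicative (ZMod 2), a * a = 1 → b * b = 1 → a ≠ 1 → b ≠ 1 → a = b := by decide
  have htr : ∀ h : G →* Multiplicative (ZMod 2), h = 1 := by
    intro h
    rcases h.normal_ker.eq_bot_or_eq_top with e | e
    · refine absurd ?_ (not_comm_group P f hf hr)
      intro a b
      exact (MonoidHom.ker_eq_bot_iff h).1 e (by rw [map_mul, map_mul, mul_comm])
    · exact MonoidHom.ext fun x => MonoidHom.mem_ker.1 (e ▸ Subgroup.mem_top x)
  have hY : IsPGroup 2 ((P : Subgroup G) ⊓ Subgroup.centralizer ({f u} : Set G) : Subgroup G) :=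
    P.isPGroup'.to_le inf_le_left
  obtain ⟨a, ha, hmem, hker⟩ := Transfer.exists_conj_ker_of_transfer_eq_one φ hA
    (u := f u) (by rw [← map_mul, hu, map_one]) (mem_syl P f hf hr u)
    (by
      show L (g.symm ⟨f u, _⟩) ≠ 1
      rw [show (⟨f u, mem_syl P f hf hr u⟩ : ↥(P : Subgroup G)) = g u from Subtype.ext (hg u).symm,
        g.symm_apply_apply]
      exact hL)
    (Nat.not_even_iff_odd.mp fun e => P.not_dvd_index (even_iff_two_dvd.mp e))
    (by rw [htr (MonoidHom.transfer φ), MonoidHom.one_apply]) _ hY inf_le_right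
  have hw : f (g.symm ⟨_, hmem⟩) = a⁻¹ * f u * a := by
    rw [← hg, g.apply_symm_apply]
  refine ⟨a, g.symm ⟨_, hmem⟩, hker, ?_, ?_, hw, fun v hv => exists_pre P f hf hr (ha _ ?_)⟩
  · refine hf ?_
    rw [map_mul, hw, map_one, show a⁻¹ * f u * a * (a⁻¹ * f u * a) = a⁻¹ * (f u * f u) * a by group,
      ← map_mul, hu, map_one]
    group
  · intro e
    rw [e, map_one] at hw
    have : f u = 1 := by
      rw [show f u = a * (a⁻¹ * f u * a) * a⁻¹ by group, ← hw]; group
    exact hL (by rw [hf (this.trans f.map_one.symm), map_one])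
  · exact Subgroup.mem_inf.2 ⟨mem_syl P f hf hr v,
      Subgroup.mem_centralizer_singleton_iff.2 (by rw [← map_mul, hv, map_mul])⟩

theorem conj_of (u v : GT k) (c : GT k) (h : c * u = v * c) : IsConj (f u) (f v) :=
  isConj_iff.2 ⟨f c, by rw [← map_mul, h, map_mul, mul_inv_cancel_right]⟩

theorem conj_AB : IsConj (f (A (hh k) 0)) (f (A 0 (hh k))) :=
  conj_of P f hf hr _ _ S (by simp [mul_def, A, S, sg])

/-- An `i`-type involution commutes with a translate conjugate to it. -/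
theorem conj_translate {x y x' y' : Rk k} (h1 : (x' - x) + (x' - x) = 0) (h2 : (y' - y) + (y' - y) = 0) :
    IsConj (f ⟨x, y, true, false⟩) (f ⟨x', y', true, false⟩) := by
  obtain ⟨c, hc⟩ : ∃ c : Rk k, x' - x = c + c := by
    rcases two_tors.1 h1 with e | e
    · exact ⟨0, by rw [e, add_zero]⟩
    · exact ⟨_, e.trans hh_double⟩
  obtain ⟨d, hd⟩ : ∃ d : Rk k, y' - y = d + d := by
    rcases two_tors.1 h2 with e | e
    · exact ⟨0, by rw [e, add_zero]⟩
    · exact ⟨_, e.trans hh_double⟩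
  refine conj_of P f hf hr _ _ (A c d) ?_
  simp [mul_def, A, sg]
  exact ⟨by linear_combination -hc, by linear_combination -hd⟩

/-- If `Z` is conjugate to `u` and is a commutator in the centraliser of `u`, then it is conjugate
to `A(h,0)`. -/
theorem conj_of_witness {u : GT k} (huZ : u ≠ Z) (hc : IsConj (f u) (f Z)) {v1 v2 : GT k}
    (h1 : v1 * u = u * v1) (h2 : v2 * u = u * v2) (h12 : v1 * v2 * v1⁻¹ * v2⁻¹ = Z) :
    IsConj (f Z) (f (A (hh k) 0)) := by
  obtain ⟨g, -, hgu, hgY⟩ := (M12Syl.sylIn_top P).to_center (z := f Z) (fun s hs => by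
      obtain ⟨w, rfl⟩ := exists_pre P f hf hr hs
      rw [← map_mul, Z_central, map_mul])
    (u := f u) ((isConj_iff.1 hc).imp fun c hc => ⟨Subgroup.mem_top c, hc⟩)
    (Y := (P : Subgroup G) ⊓ Subgroup.centralizer ({f u} : Set G)) le_top
    (P.isPGroup'.to_le inf_le_left) (fun y hy => Subgroup.mem_centralizer_singleton_iff.1 hy.2)
  have key : ∀ v : GT k, v * u = u * v → ∃ v', f v' = g * f v * g⁻¹ := fun v hv =>
    exists_pre P f hf hr (hgY _ ⟨mem_syl P f hf hr v,
      Subgroup.mem_centralizer_singleton_iff.2 (by rw [← map_mul, hv, map_mul])⟩)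
  obtain ⟨w1, hw1⟩ := key v1 h1
  obtain ⟨w2, hw2⟩ := key v2 h2
  set z' := w1 * w2 * w1⁻¹ * w2⁻¹ with hz'
  have hz : f z' = g * f Z * g⁻¹ := by
    rw [hz', ← h12]
    simp only [map_mul, map_inv, hw1, hw2]
    group
  have hne : z' ≠ Z := fun e => huZ (hf (by
    rw [e] at hz
    calc f u = g⁻¹ * (g * f u * g⁻¹) * g := by group
      _ = g⁻¹ * f Z * g := by rw [hgu]
      _ = g⁻¹ * (g * f Z * g⁻¹) * g := by rw [← hz]
      _ = f Z := by group))
  have hne1 : z' ≠ 1 := fun e => Z_ne_one (k := k) (hf (by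
    rw [e, map_one] at hz
    rw [map_one, show f Z = g⁻¹ * (g * f Z * g⁻¹) * g by group, ← hz]; group))
  have hsq : z' * z' = 1 := hf (by
    rw [map_mul, map_one, hz, show g * f Z * g⁻¹ * (g * f Z * g⁻¹) = g * (f Z * f Z) * g⁻¹ by group,
      ← map_mul, Z_sq, map_one]
    group)
  have hA : z'.e = false ∧ z'.d = false := by
    rcases w1 with ⟨a, b, e, d⟩
    rcases w2 with ⟨a', b', e', d'⟩
    rw [hz']
    cases e <;> cases d <;> cases e' <;> cases d' <;> simp [mul_def, Inv.inv]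
  have hconj : IsConj (f Z) (f z') := isConj_iff.2 ⟨g, hz.symm⟩
  rcases shapes hsq hne1 with (h | h | h) | ⟨h, -⟩ | ⟨-, h, -⟩ | ⟨h, -⟩
  · exact absurd h hne
  · exact h ▸ hconj
  · exact (h ▸ hconj).trans (conj_AB P f hf hr).symm
  all_goals simp [hA.1, hA.2] at h

/-- Outside the exceptional class, a conjugate of `Z` other than `Z` gives `Z ~ A(h,0)`. -/
theorem conj_or_odd {u : GT k} (hu2 : u * u = 1) (hu1 : u ≠ 1) (huZ : u ≠ Z)
    (hc : IsConj (f u) (f Z)) : IsConj (f Z) (f (A (hh k) 0)) ∨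
      ∃ x y : Rk k, u = ⟨x, y, true, false⟩ ∧ par k x + par k y ≠ 0 := by
  rcases shapes hu2 hu1 with (h | h | h) | h | h | h
  · exact absurd h huZ
  · exact Or.inl (h ▸ hc.symm)
  · exact Or.inl ((h ▸ hc.symm).trans (conj_AB P f hf hr).symm)
  · rcases u with ⟨x, y, e, d⟩
    obtain ⟨rfl, rfl⟩ := h
    by_cases hp : par k x + par k y = 0
    · obtain ⟨v1, v2, e1, e2, e12⟩ := witness_i hp
      exact Or.inl (conj_of_witness P f hf hr huZ hc e1 e2 e12)
    · exact Or.inr ⟨x, y, rfl, hp⟩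
  · rcases u with ⟨x, y, e, d⟩
    obtain ⟨he, hd, hy⟩ := h
    simp only at he hd hy
    subst he hd hy
    obtain ⟨v1, v2, e1, e2, e12⟩ := witness_s (k := k) (x := x)
    exact Or.inl (conj_of_witness P f hf hr huZ hc e1 e2 e12)
  · rcases u with ⟨x, y, e, d⟩
    obtain ⟨he, hd, hy⟩ := h
    simp only at he hd hy
    subst he hd hy
    obtain ⟨v1, v2, e1, e2, e12⟩ := witness_is (k := k) (x := y)
    exact Or.inl (conj_of_witness P f hf hr huZ hc e1 e2 e12)

theorem conj_ZA : IsConj (f Z) (f (A (hh k) 0)) := by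
  have hz2 : orderOf (f Z) = 2 := by
    rw [orderOf_injective f hf]
    exact orderOf_eq_prime (by rw [pow_two, Z_sq]) Z_ne_one
  obtain ⟨g, hgP, hg⟩ : ∃ g : G, g * f Z * g⁻¹ ∈ (P : Subgroup G) ∧ g * f Z * g⁻¹ ≠ f Z := by
    by_contra hcon
    obtain ⟨N, hN, hNodd, hNc⟩ := Cfsg.Agent.S0215.result P (f Z) hz2 (mem_syl P f hf hr Z)
      (fun g hg => by_contra fun h => hcon ⟨g, hg, h⟩)
    rcases hN.eq_bot_or_eq_top with rfl | rfl
    · have hzc : f Z ∈ Subgroup.center G := Subgroup.mem_center_iff.2 fun g => by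
        have := Subgroup.mem_bot.1 (hNc g)
        rw [mul_inv_eq_one, mul_inv_eq_iff_eq_mul] at this
        exact this.symm
      rcases (Subgroup.center G).normal_of_characteristic.eq_bot_or_eq_top with e | e
      · rw [e, Subgroup.mem_bot] at hzc
        exact Z_ne_one (k := k) (hf (by rw [hzc, map_one]))
      · exact not_comm_group P f hf hr fun a b =>
          (Subgroup.mem_center_iff.1 (e ▸ Subgroup.mem_top b) a)
    · rw [Subgroup.card_top] at hNodd
      exact Nat.not_even_iff_odd.2 hNodd (even_iff_two_dvd.2 (hz2 ▸ orderOf_dvd_natCard (f Z)))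
  obtain ⟨u, hu⟩ := exists_pre P f hf hr hgP
  have hu2 : u * u = 1 := hf (by
    rw [map_mul, map_one, hu, show g * f Z * g⁻¹ * (g * f Z * g⁻¹) = g * (f Z * f Z) * g⁻¹ by group,
      ← map_mul, Z_sq, map_one]
    group)
  have hu1 : u ≠ 1 := fun e => Z_ne_one (k := k) (hf (by
    rw [e, map_one] at hu
    rw [map_one, show f Z = g⁻¹ * (g * f Z * g⁻¹) * g by group, ← hu]; group))
  have huZ : u ≠ Z := fun e => hg (by rw [← hu, e])
  have hc : IsConj (f u) (f Z) := (isConj_iff.2 ⟨g, hu.symm⟩).symm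
  rcases conj_or_odd P f hf hr hu2 hu1 huZ hc with h | ⟨x, y, rfl, hp⟩
  · exact h
  -- move the centraliser of `u` into the Sylow subgroup
  obtain ⟨c, -, hcu, hcY⟩ := (M12Syl.sylIn_top P).to_center (z := f Z) (fun s hs => by
      obtain ⟨w, rfl⟩ := exists_pre P f hf hr hs
      rw [← map_mul, Z_central, map_mul])
    (u := f ⟨x, y, true, false⟩) ((isConj_iff.1 hc).imp fun c hc => ⟨Subgroup.mem_top c, hc⟩)
    (Y := (P : Subgroup G) ⊓ Subgroup.centralizer ({f ⟨x, y, true, false⟩} : Set G)) le_top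
    (P.isPGroup'.to_le inf_le_left) (fun y hy => Subgroup.mem_centralizer_singleton_iff.1 hy.2)
  have key : ∀ v : GT k, v * ⟨x, y, true, false⟩ = ⟨x, y, true, false⟩ * v → v * v = 1 → v ≠ 1 →
      ∃ v', f v' = c * f v * c⁻¹ ∧ v' * v' = 1 ∧ v' ≠ 1 := by
    intro v hv hv2 hv1
    obtain ⟨v', hv'⟩ := exists_pre P f hf hr (hcY (f v) ⟨mem_syl P f hf hr v,
      Subgroup.mem_centralizer_singleton_iff.2 (by rw [← map_mul, hv, map_mul])⟩)
    refine ⟨v', hv', hf ?_, fun e => hv1 (hf ?_)⟩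
    · rw [map_mul, map_one, hv', show c * f v * c⁻¹ * (c * f v * c⁻¹) = c * (f v * f v) * c⁻¹ by group,
        ← map_mul, hv2, map_one]
      group
    · rw [e, map_one] at hv'
      rw [map_one, show f v = c⁻¹ * (c * f v * c⁻¹) * c by group, ← hv']; group
  have hab : ∀ p : Rk k, p + p = 0 → ∀ q : Rk k, q + q = 0 →
      A p q * ⟨x, y, true, false⟩ = ⟨x, y, true, false⟩ * A p q ∧ A p q * A p q = 1 := by
    intro p hp q hq
    refine ⟨?_, by rw [A_mul, hp, hq]; rfl⟩
    simp [mul_def, A, sg]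
    exact ⟨by linear_combination hp, by linear_combination hq⟩
  obtain ⟨a', ha', ha2, ha1⟩ := key _ (hab _ hh_add 0 (add_zero _)).1 (hab _ hh_add 0 (add_zero _)).2
    (fun e => hh_ne (congrArg GT.x e))
  obtain ⟨b', hb', hb2, hb1⟩ := key _ (hab 0 (add_zero _) _ hh_add).1 (hab 0 (add_zero _) _ hh_add).2
    (fun e => hh_ne (congrArg GT.y e))
  obtain ⟨z', hz', hz2', hz1⟩ := key Z (Z_central _).symm Z_sq Z_ne_one
  have hzZ : z' ≠ Z := fun e => huZ (hf (by
    rw [e] at hz'
    calc f ⟨x, y, true, false⟩ = c⁻¹ * (c * f ⟨x, y, true, false⟩ * c⁻¹) * c := by group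
      _ = c⁻¹ * f Z * c := by rw [hcu]
      _ = c⁻¹ * (c * f Z * c⁻¹) * c := by rw [← hz']
      _ = f Z := by group))
  have hzc : IsConj (f z') (f Z) := (isConj_iff.2 ⟨c, hz'.symm⟩).symm
  rcases conj_or_odd P f hf hr hz2' hz1 hzZ hzc with h | ⟨x', y', rfl, hp'⟩
  · exact h
  -- the two images lie in the centraliser of the image of `Z`
  have hloc : ∀ (v : GT k) (v' : GT k), IsConj (f v) (f (A (hh k) 0)) → f v' = c * f v * c⁻¹ →
      v' * v' = 1 → v' ≠ 1 →
      IsConj (f Z) (f (A (hh k) 0)) ∨ v' = A (hh k) 0 ∨ v' = A 0 (hh k) := by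
    intro v v' hv hv' h2 h1
    have hcv : IsConj (f v') (f (A (hh k) 0)) := (isConj_iff.2 ⟨c, hv'.symm⟩).symm.trans hv
    have hcomm : v' * ⟨x', y', true, false⟩ = ⟨x', y', true, false⟩ * v' := hf (by
      rw [map_mul, map_mul, hz', hv',
        show c * f v * c⁻¹ * (c * f Z * c⁻¹) = c * (f v * f Z) * c⁻¹ by group, ← map_mul, Z_central,
        map_mul]
      group)
    obtain ⟨hd, h⟩ := cent_odd hp' hcomm
    rcases h with ⟨he, -, -⟩ | ⟨he, e1, e2⟩
    · rcases shapes h2 h1 with (h | h | h) | ⟨h, -⟩ | ⟨-, h, -⟩ | ⟨h, -⟩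
      · exact Or.inl (h ▸ hcv)
      · exact Or.inr (Or.inl h)
      · exact Or.inr (Or.inr h)
      all_goals simp [he, hd] at h
    · rcases v' with ⟨p, q, e, d⟩
      simp only at hd he e1 e2
      subst hd he
      exact Or.inl ((hzc.symm.trans (conj_translate P f hf hr e1 e2)).trans hcv)
  rcases hloc _ a' (IsConj.refl _) ha' ha2 ha1 with h | ha
  · exact h
  rcases hloc _ b' (conj_AB P f hf hr).symm hb' hb2 hb1 with h | hb
  · exact h
  exfalso
  have hprod : f (a' * b') = f ⟨x', y', true, false⟩ := by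
    rw [map_mul, ha', hb', hz', show c * f (A (hh k) 0) * c⁻¹ * (c * f (A 0 (hh k)) * c⁻¹) =
      c * (f (A (hh k) 0) * f (A 0 (hh k))) * c⁻¹ by group, ← map_mul, A_mul, add_zero, zero_add]
    rfl
  have := congrArg GT.e (hf hprod)
  rcases ha with rfl | rfl <;> rcases hb with rfl | rfl <;> simp [mul_def, A] at this

theorem conj_of_inOm {u : GT k} (h : InOm u) : IsConj (f u) (f Z) := by
  rcases h with rfl | rfl | rfl
  · exact IsConj.refl _
  · exact (conj_ZA P f hf hr).symm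
  · exact ((conj_ZA P f hf hr).trans (conj_AB P f hf hr)).symm

theorem conj_s_type (x : Rk k) : IsConj (f S) (f ⟨x, -x, false, true⟩) :=
  conj_of P f hf hr _ _ (A x 0) (by simp [mul_def, A, S, sg])

theorem class_i_even {x y : Rk k} (hp : par k x + par k y = 0) :
    IsConj (f ⟨x, y, true, false⟩) (f Z) ∨ IsConj (f ⟨x, y, true, false⟩) (f S) := by
  obtain ⟨a, w, hL, hw2, hw1, hw, hC⟩ := step P f hf hr (u := ⟨x, y, true, false⟩)
    (by simp [mul_def, one_def, sg]) (lin 1 1 0) (by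
      rw [Ne, lin_eq_one]; simp [b2z, hp])
  have hc : IsConj (f ⟨x, y, true, false⟩) (f w) := isConj_iff.2 ⟨a⁻¹, by rw [inv_inv, hw]⟩
  rw [lin_eq_one] at hL
  rcases shapes hw2 hw1 with h | ⟨he, hd⟩ | ⟨he, hd, hy⟩ | ⟨he, hd, hy⟩
  · exact Or.inl (hc.trans (conj_of_inOm P f hf hr h))
  · exfalso
    rcases w with ⟨p, q, e, d⟩
    simp only at he hd
    subst he hd
    have hodd : par k p + par k q ≠ 0 := by
      intro e; simp [b2z, e] at hL
    obtain ⟨v1, v2, e1, e2, e12⟩ := witness_i hp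
    obtain ⟨w1, hw1'⟩ := hC v1 e1
    obtain ⟨w2, hw2'⟩ := hC v2 e2
    have hcm : ∀ v v' : GT k, v * ⟨x, y, true, false⟩ = ⟨x, y, true, false⟩ * v →
        f v' = a⁻¹ * f v * a → v' * ⟨p, q, true, false⟩ = ⟨p, q, true, false⟩ * v' := by
      intro v v' hv hv'
      refine hf ?_
      rw [map_mul, map_mul, hv', hw,
        show a⁻¹ * f v * a * (a⁻¹ * f ⟨x, y, true, false⟩ * a) =
          a⁻¹ * (f v * f ⟨x, y, true, false⟩) * a by group, ← map_mul, hv, map_mul]
      group
    have hcomm := congrArg f (cent_odd_comm hodd (hcm v1 w1 e1 hw1') (hcm v2 w2 e2 hw2'))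
    rw [map_mul, map_mul, hw1', hw2'] at hcomm
    refine Z_ne_one (k := k) (e12.symm.trans ?_)
    have : v1 * v2 = v2 * v1 := hf (by
      rw [map_mul, map_mul]
      calc f v1 * f v2 = a * (a⁻¹ * f v1 * a * (a⁻¹ * f v2 * a)) * a⁻¹ := by group
        _ = a * (a⁻¹ * f v2 * a * (a⁻¹ * f v1 * a)) * a⁻¹ := by rw [hcomm]
        _ = _ := by group)
    rw [this]; group
  · refine Or.inr (hc.trans ?_)
    rcases w with ⟨p, q, e, d⟩
    simp only at he hd hy
    subst he hd hy
    exact (conj_s_type P f hf hr p).symm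
  · exfalso
    simp [he, hy, b2z, CharTwo.add_self_eq_zero] at hL

theorem class_all {u : GT k} (h2 : u * u = 1) (h1 : u ≠ 1) :
    IsConj (f u) (f Z) ∨ IsConj (f u) (f S) := by
  rcases shapes h2 h1 with h | ⟨he, hd⟩ | ⟨he, hd, hy⟩ | ⟨he, hd, hy⟩
  · exact Or.inl (conj_of_inOm P f hf hr h)
  · rcases u with ⟨x, y, e, d⟩
    simp only at he hd
    subst he hd
    by_cases hp : par k x + par k y = 0
    · exact class_i_even P f hf hr hp
    obtain ⟨a, w, hL, hw2, hw1, hw, -⟩ := step P f hf hr (u := ⟨x, y, true, false⟩) h2 (lin 1 0 1) (by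
      rw [Ne, lin_eq_one]; simpa [b2z] using hp)
    have hc : IsConj (f ⟨x, y, true, false⟩) (f w) := isConj_iff.2 ⟨a⁻¹, by rw [inv_inv, hw]⟩
    rw [lin_eq_one] at hL
    rcases shapes hw2 hw1 with h | ⟨he', hd'⟩ | ⟨he', hd', hy⟩ | ⟨he', hd', hy⟩
    · exact Or.inl (hc.trans (conj_of_inOm P f hf hr h))
    · rcases w with ⟨p, q, e, d⟩
      simp only at he' hd'
      subst he' hd'
      have hev : par k p + par k q = 0 := by simpa [b2z] using hL
      rcases class_i_even P f hf hr hev with h | h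
      · exact Or.inl (hc.trans h)
      · exact Or.inr (hc.trans h)
    · exfalso; simp [hd', hy, b2z, map_neg, CharTwo.neg_eq, CharTwo.add_self_eq_zero] at hL
    · exfalso; simp [hd', hy, b2z, CharTwo.add_self_eq_zero] at hL
  · rcases u with ⟨x, y, e, d⟩
    simp only at he hd hy
    subst he hd hy
    exact Or.inr (conj_s_type P f hf hr x).symm
  · obtain ⟨a, w, hL, hw2, hw1, hw, -⟩ := step P f hf hr (u := u) h2 (lin 0 1 0) (by
      rw [Ne, lin_eq_one]; simp [b2z, he])
    have hc : IsConj (f u) (f w) := isConj_iff.2 ⟨a⁻¹, by rw [inv_inv, hw]⟩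
    rw [lin_eq_one] at hL
    rcases shapes hw2 hw1 with h | ⟨he', -⟩ | ⟨he', hd', hy'⟩ | ⟨he', -⟩
    · exact Or.inl (hc.trans (conj_of_inOm P f hf hr h))
    · exfalso; simp [he', b2z] at hL
    · refine Or.inr (hc.trans ?_)
      rcases w with ⟨p, q, e, d⟩
      simp only at he' hd' hy'
      subst he' hd' hy'
      exact (conj_s_type P f hf hr p).symm
    · exfalso; simp [he', b2z] at hL

theorem conj_SZ (hk : 1 ≤ k) : IsConj (f S) (f Z) := by
  obtain ⟨a, w, hL, hw2, hw1, hw, hC⟩ := step P f hf hr (u := (S : GT k))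
    (by simp [mul_def, one_def, S, sg]) (lin 1 0 1) (by
      rw [Ne, lin_eq_one]; simp [S, b2z])
  have hc : IsConj (f S) (f w) := isConj_iff.2 ⟨a⁻¹, by rw [inv_inv, hw]⟩
  rw [lin_eq_one] at hL
  rcases shapes hw2 hw1 with h | ⟨he, hd⟩ | ⟨he, hd, hy⟩ | ⟨he, hd, hy⟩
  · exact hc.trans (conj_of_inOm P f hf hr h)
  · exfalso
    rcases w with ⟨p, q, e, d⟩
    simp only at he hd
    subst he hd
    have hA : (A 1 1 : GT k) * S = S * A 1 1 := by simp [mul_def, A, S, sg]
    obtain ⟨v', hv'⟩ := hC _ hA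
    have h4 := congrArg f (cent_pow_four (v := v') (x := p) (y := q) (hf (by
      rw [map_mul, map_mul, hv', hw,
        show a⁻¹ * f (A 1 1) * a * (a⁻¹ * f S * a) = a⁻¹ * (f (A 1 1) * f S) * a by group,
        ← map_mul, hA, map_mul]
      group)))
    rw [map_mul, map_mul, map_one, hv'] at h4
    have : (A 1 1 * A 1 1 * (A 1 1 * A 1 1) : GT k) = 1 := hf (by
      rw [map_mul, map_mul, map_one]
      calc f (A 1 1) * f (A 1 1) * (f (A 1 1) * f (A 1 1)) =
            a * (a⁻¹ * f (A 1 1) * a * (a⁻¹ * f (A 1 1) * a) *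
              (a⁻¹ * f (A 1 1) * a * (a⁻¹ * f (A 1 1) * a))) * a⁻¹ := by group
        _ = 1 := by rw [h4]; group)
    rw [A_mul, A_mul] at this
    have h40 : ((4 : ℕ) : Rk k) = 0 := by
      have := congrArg GT.x this
      simp only [A, one_def] at this
      push_cast
      linear_combination this
    rw [ZMod.natCast_eq_zero_iff] at h40
    have h8 := Nat.le_of_dvd (by norm_num) h40
    have : 2 ^ 1 ≤ 2 ^ k := Nat.pow_le_pow_right (by norm_num) hk
    simp only [mm] at h8
    omega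
  · exfalso; simp [hd, hy, b2z, map_neg, CharTwo.neg_eq, CharTwo.add_self_eq_zero] at hL
  · exfalso; simp [hd, hy, b2z, CharTwo.add_self_eq_zero] at hL

/-- The involution classes. -/
theorem classes : (∀ x y : G, orderOf x = 2 → orderOf y = 2 → IsConj x y) ∨
    (k = 0 ∧ ∃ x y : G, orderOf x = 2 ∧ orderOf y = 2 ∧ ¬ IsConj x y ∧
      ∀ z : G, orderOf z = 2 → IsConj z x ∨ IsConj z y) := by
  have hall : ∀ z : G, orderOf z = 2 → IsConj z (f Z) ∨ IsConj z (f S) := by
    intro z hz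
    haveI := Fact.mk Nat.prime_two
    obtain ⟨g, -, hg⟩ := (M12Syl.sylIn_top P).absorb (Subgroup.zpowers z) le_top
      (IsPGroup.of_card (n := 1) (by rw [Nat.card_zpowers, hz, pow_one]))
    obtain ⟨u, hu⟩ := exists_pre P f hf hr (hg z (Subgroup.mem_zpowers z))
    have h2 : z * z = 1 := by rw [← pow_two, ← hz, pow_orderOf_eq_one]
    have hu2 : u * u = 1 := hf (by
      rw [map_mul, map_one, hu, show g * z * g⁻¹ * (g * z * g⁻¹) = g * (z * z) * g⁻¹ by group, h2]
      group)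
    have hu1 : u ≠ 1 := fun e => by
      rw [e, map_one] at hu
      have : z = 1 := by rw [show z = g⁻¹ * (g * z * g⁻¹) * g by group, ← hu]; group
      rw [this, orderOf_one] at hz
      omega
    have hc : IsConj z (f u) := isConj_iff.2 ⟨g, hu.symm⟩
    exact (class_all P f hf hr hu2 hu1).imp hc.trans hc.trans
  by_cases hzs : IsConj (f S) (f Z)
  · refine Or.inl fun x y hx hy => ?_
    have : ∀ z, orderOf z = 2 → IsConj z (f Z) := fun z hz => (hall z hz).elim id fun h => h.trans hzs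
    exact (this x hx).trans (this y hy).symm
  · have ho : ∀ u : GT k, u * u = 1 → u ≠ 1 → orderOf (f u) = 2 := fun u h2 h1 => by
      rw [orderOf_injective f hf]
      exact orderOf_eq_prime (by rw [pow_two, h2]) h1
    refine Or.inr ⟨Nat.eq_zero_of_not_pos fun h => hzs (conj_SZ P f hf hr h), f Z, f S,
      ho _ Z_sq Z_ne_one, ho _ (by simp [mul_def, one_def, S, sg])
        (fun e => by have := congrArg GT.d e; simp [S, one_def] at this), fun h => hzs h.symm, hall⟩

end Group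

end CfsgLib.GTwoSyl
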