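import Cfsg.Agent.Lib.GTwoSyl.Chev

/-!
`GT k` embeds in `G₂(q)` as a Sylow 2-subgroup.
-/

set_option autoImplicit false
set_option linter.style.haveILetI false
set_option linter.unusedSectionVars false
set_option maxRecDepth 100000

namespace CfsgLib.GTwoSyl

open GT Cfsg.Lie Matrix CfsgLib.Chev CfsgLib.Chev.G2Invol
open scoped MatrixGroups

/-- Generators with the relations of `GT k`. -/
structure Gens (k : ℕ) (H : Type*) [Group H] where
  E1 : H
  E2 : H
  I : H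
  S : H
  comm : E1 * E2 = E2 * E1
  pow1 : E1 ^ mm k = 1
  pow2 : E2 ^ mm k = 1
  ii : I * I = 1
  ss : S * S = 1
  si : S * I = I * S
  i1 : I * E1 * I⁻¹ = E1⁻¹
  i2 : I * E2 * I⁻¹ = E2⁻¹
  s1 : S * E1 * S⁻¹ = E2
  s2 : S * E2 * S⁻¹ = E1

namespace Gens

variable {k : ℕ} {H : Type*} [Group H] (G : Gens k H)

/-- The abelian part. -/
def a (x y : Rk k) : H := G.E1 ^ x.val * G.E2 ^ y.val

theorem val_add (x x' : Rk k) {g : H} (hg : g ^ mm k = 1) : g ^ (x + x').val = g ^ x.val * g ^ x'.val := by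
  haveI : NeZero (mm k) := ⟨by positivity⟩
  rw [ZMod.val_add, ← pow_add]
  exact (pow_eq_pow_mod _ hg).symm

theorem a_mul (x y x' y' : Rk k) : G.a x y * G.a x' y' = G.a (x + x') (y + y') := by
  simp only [a, val_add _ _ G.pow1, val_add _ _ G.pow2]
  have h : Commute (G.E2 ^ y.val) (G.E1 ^ x'.val) := ((show Commute G.E2 G.E1 from G.comm.symm).pow_pow _ _)
  calc _ = G.E1 ^ x.val * (G.E2 ^ y.val * G.E1 ^ x'.val) * G.E2 ^ y'.val := by group
    _ = G.E1 ^ x.val * (G.E1 ^ x'.val * G.E2 ^ y.val) * G.E2 ^ y'.val := by rw [h.eq]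
    _ = _ := by group

theorem a_zero : G.a 0 0 = 1 := by simp [a]

theorem a_neg (x y : Rk k) : G.a (-x) (-y) = (G.a x y)⁻¹ :=
  eq_inv_of_mul_eq_one_left (by rw [a_mul]; simp [a_zero])

theorem I_a (x y : Rk k) : G.I * G.a x y = G.a (-x) (-y) * G.I := by
  have h1 : SemiconjBy G.I G.E1 G.E1⁻¹ := mul_inv_eq_iff_eq_mul.1 G.i1
  have h2 : SemiconjBy G.I G.E2 G.E2⁻¹ := mul_inv_eq_iff_eq_mul.1 G.i2
  have h := ((h1.pow_right x.val).mul_right (h2.pow_right y.val)).eq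
  rw [a_neg, a]
  rw [h, inv_pow, inv_pow, _root_.mul_inv_rev,
    ((show Commute G.E1 G.E2 from G.comm).pow_pow x.val y.val).inv_inv.eq]

theorem S_a (x y : Rk k) : G.S * G.a x y = G.a y x * G.S := by
  have h1 : SemiconjBy G.S G.E1 G.E2 := mul_inv_eq_iff_eq_mul.1 G.s1
  have h2 : SemiconjBy G.S G.E2 G.E1 := mul_inv_eq_iff_eq_mul.1 G.s2
  have h := ((h1.pow_right x.val).mul_right (h2.pow_right y.val)).eq
  rw [a, a, h, ((show Commute G.E2 G.E1 from G.comm.symm).pow_pow x.val y.val).eq]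

theorem I_a' (x y : Rk k) (r : H) : G.I * (G.a x y * r) = G.a (-x) (-y) * (G.I * r) := by
  rw [← mul_assoc, I_a, mul_assoc]

theorem S_a' (x y : Rk k) (r : H) : G.S * (G.a x y * r) = G.a y x * (G.S * r) := by
  rw [← mul_assoc, S_a, mul_assoc]

theorem a_mul' (x y x' y' : Rk k) (r : H) :
    G.a x y * (G.a x' y' * r) = G.a (x + x') (y + y') * r := by
  rw [← mul_assoc, a_mul]

theorem II' (r : H) : G.I * (G.I * r) = r := by rw [← mul_assoc, G.ii, one_mul]

theorem SS' (r : H) : G.S * (G.S * r) = r := by rw [← mul_assoc, G.ss, one_mul]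

theorem SI' (r : H) : G.S * (G.I * r) = G.I * (G.S * r) := by rw [← mul_assoc, G.si, mul_assoc]

/-- The map. -/
def fn (g : GT k) : H := G.a g.x g.y * ((if g.e then G.I else 1) * (if g.d then G.S else 1))

/-- The homomorphism. -/
def hom : GT k →* H :=
  MonoidHom.mk' G.fn fun g h => by
    rcases g with ⟨x, y, e, d⟩
    rcases h with ⟨x', y', e', d'⟩
    cases e <;> cases d <;> cases e' <;> cases d' <;>
      simp [fn, mul_def, sg, mul_assoc, I_a, S_a, I_a', S_a', a_mul, a_mul', G.ii, G.ss, G.si, II', SS', SI']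

theorem hom_Z : G.hom Z = G.E1 ^ (2 * 2 ^ k) * G.E2 ^ (2 * 2 ^ k) := by
  show G.fn Z = _
  simp only [fn, Z, A, a, Bool.false_eq_true, if_false, mul_one]
  rw [show (hh k).val = 2 * 2 ^ k by
    rw [hh, ZMod.val_natCast, Nat.mod_eq_of_lt (by show 2 * 2 ^ k < 4 * 2 ^ k; have : 0 < 2 ^ k := (by positivity); omega)]]

end Gens

variable {F : Type*} [Field F] [Fintype F]

theorem exists_hom (hodd : Odd (Fintype.card F)) :
    ∃ k : ℕ, (Fintype.card F ^ 2 - 1).factorization 2 = k + 3 ∧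
      ∃ f : GT k →* ↥(chevG2.group F), Function.Injective f := by
  classical
  have h2 : (2 : F) ≠ 0 := G2Invol.two_ne_zero_of_odd (Nat.odd_iff.1 hodd)
  obtain ⟨k, c, w, hc, hw, hwc, hc1, hk⟩ := exists_quaternion_pair hodd
  refine ⟨k, hk, ?_⟩
  obtain ⟨C, hC⟩ : ∃ C : Matrix (Fin 2) (Fin 2) F, C = c.1 := ⟨_, rfl⟩
  set t := C 0 0 + C 1 1 with ht
  have hdet : C 0 0 * C 1 1 - C 0 1 * C 1 0 = 1 := hC ▸ SL2Pair.det_eq c
  have hCi : (c⁻¹ : SL(2, F)).1 = t • 1 - C := by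
    rw [Matrix.SpecialLinearGroup.coe_inv, adjugate_fin_two, ← hC]
    ext i j; fin_cases i <;> fin_cases j <;> simp [ht]
  have hCC : C * C = t • C - 1 := by
    ext i j
    fin_cases i <;> fin_cases j <;> simp [Matrix.mul_apply, Fin.sum_univ_two, ht]
    · linear_combination -hdet
    · ring
    · ring
    · linear_combination -hdet
  have hL : 2 + t ≠ 0 := by
    intro e
    -- then `(C + 1)² = 0`, so `C = -1` as `c` has `2`-power order
    have hN : (C + 1) * (C + 1) = 0 := by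
      rw [mul_add, add_mul, add_mul, hCC, mul_one, one_mul, one_mul]
      have : t = -2 := by linear_combination e
      rw [this]
      module
    have hpow : ∀ n : ℕ, C ^ (2 * n) = 1 - ((2 * n : ℕ) : F) • (C + 1) := by
      intro n
      induction n with
      | zero => simp
      | succ n ih =>
        rw [mul_add, mul_one, pow_add, ih, pow_two, hCC, show t = -2 by linear_combination e]
        have e1 : (C + 1) * ((-2 : F) • C - 1) = C + 1 := by
          have : (C + 1) * C = -(C + 1) := by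
            have := hN; rw [mul_add, mul_one] at this; exact eq_neg_of_add_eq_zero_left this
          rw [mul_sub, mul_smul_comm, this, mul_one]; module
        rw [sub_mul, one_mul, smul_mul_assoc, e1]
        push_cast
        module
    have h1 : C ^ (2 * 2 ^ k) = -1 := by
      rw [hC, ← Matrix.SpecialLinearGroup.coe_pow, hc]; rfl
    rw [hpow] at h1
    have h00 : (2 : Matrix (Fin 2) (Fin 2) F) - ((2 * 2 ^ k : ℕ) : F) • (C + 1) = 0 := by
      rw [show (2 : Matrix (Fin 2) (Fin 2) F) = 1 + 1 by norm_num, add_sub_assoc, h1, add_neg_cancel]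
    have h3 : (2 : Matrix (Fin 2) (Fin 2) F) * (2 : Matrix (Fin 2) (Fin 2) F) = 0 := by
      have hh := congrArg (fun M => M * M) (sub_eq_zero.1 h00)
      simp only [smul_mul_assoc, mul_smul_comm, hN, smul_zero] at hh
      exact hh
    have := congrFun (congrFun h3 0) 0
    simp [Matrix.mul_apply, Fin.sum_univ_two, Matrix.ofNat_apply] at this
    exact h2 this
  -- units
  let cG : GL (Fin 2) F := Matrix.SpecialLinearGroup.toGL c
  let wG : GL (Fin 2) F := Matrix.SpecialLinearGroup.toGL w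
  have hu1 : (1 + C) * (1 + (t • 1 - C)) = (2 + t) • 1 := by
    simp only [mul_add, add_mul, mul_sub, mul_one, one_mul, mul_smul_comm, hCC]; module
  have hu2 : (1 + (t • 1 - C)) * (1 + C) = (2 + t) • 1 := by
    simp only [mul_add, add_mul, sub_mul, mul_one, one_mul, smul_mul_assoc, hCC]; module
  let u : GL (Fin 2) F := ⟨1 + C, (2 + t)⁻¹ • (1 + (t • 1 - C)),
    by rw [mul_smul_comm, hu1, smul_smul, inv_mul_cancel₀ hL, one_smul],
    by rw [smul_mul_assoc, hu2, smul_smul, inv_mul_cancel₀ hL, one_smul]⟩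
  let L : GL (Fin 2) F := ⟨(2 + t) • 1, (2 + t)⁻¹ • 1,
    by rw [smul_mul_assoc, one_mul, smul_smul, mul_inv_cancel₀ hL, one_smul],
    by rw [smul_mul_assoc, one_mul, smul_smul, inv_mul_cancel₀ hL, one_smul]⟩
  have hLc : ∀ A : GL (Fin 2) F, L * A = A * L := fun A => Units.ext (by
    rw [Units.val_mul, Units.val_mul]; show (2 + t) • 1 * _ = _ * ((2 + t) • 1); simp)
  have huu : u * u = cG * L := Units.ext (by
    rw [Units.val_mul, Units.val_mul]
    show (1 + C) * (1 + C) = c.1 * ((2 + t) • 1)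
    rw [← hC]
    simp only [mul_add, add_mul, mul_one, one_mul, mul_smul_comm, hCC]; module)
  let nG : GL (Fin 2) F := Matrix.SpecialLinearGroup.toGL (-1)
  have hn : (nG : Matrix (Fin 2) (Fin 2) F) = -1 := rfl
  have hn2 : nG * nG = 1 := by rw [← map_mul, show (-1 : SL(2, F)) * -1 = 1 by simp, map_one]
  have hww : wG * wG = nG := by rw [← map_mul, hw]
  have hwcw : wG * cG * wG⁻¹ = cG⁻¹ := by rw [← map_inv, ← map_mul, ← map_mul, hwc, map_inv]
  set v := wG * u * wG⁻¹ with hv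
  have hvval : (v : Matrix (Fin 2) (Fin 2) F) = 1 + (t • 1 - C) := by
    have e1 : (v : Matrix (Fin 2) (Fin 2) F) =
        (wG : Matrix (Fin 2) (Fin 2) F) * (1 + C) * (wG⁻¹ : GL (Fin 2) F).1 := rfl
    have e2 : (wG : Matrix (Fin 2) (Fin 2) F) * C * (wG⁻¹ : GL (Fin 2) F).1 = t • 1 - C := by
      rw [← hCi, hC]
      have := congrArg Units.val hwcw
      rw [Units.val_mul, Units.val_mul] at this
      exact this
    rw [e1, mul_add, add_mul, mul_one, Units.mul_inv, e2]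
  have huv : u * v = L := Units.ext (by rw [Units.val_mul, hvval]; exact hu1)
  have hvu : v * u = L := Units.ext (by rw [Units.val_mul, hvval]; exact hu2)
  -- pairs
  have hdu : Matrix.GeneralLinearGroup.det v = Matrix.GeneralLinearGroup.det u := by
    rw [hv, map_mul, map_mul, map_inv, mul_comm, ← mul_assoc, inv_mul_cancel, one_mul]
  have hdw : Matrix.GeneralLinearGroup.det wG = 1 := Units.ext w.2
  let P1 : DetPairs F := ⟨(u, u), rfl⟩
  let P2 : DetPairs F := ⟨(v, u), hdu⟩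
  let W : DetPairs F := ⟨(wG, 1), by
    show Matrix.GeneralLinearGroup.det wG = Matrix.GeneralLinearGroup.det 1
    rw [hdw, map_one]⟩
  let PI : DetPairs F := ⟨(wG, wG), rfl⟩
  let Zp : DetPairs F := ⟨(nG, 1), by
    show Matrix.GeneralLinearGroup.det nG = Matrix.GeneralLinearGroup.det 1
    rw [map_one]; exact Units.ext (-1 : SL(2, F)).2⟩
  set ψ := psiG (F := F) with hψ
  have heq : ∀ p q : DetPairs F, p.1.1 = q.1.1 → p.1.2 = q.1.2 → p = q := fun p q a b =>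
    Subtype.ext (Prod.ext a b)
  have hscal : ∀ (p : DetPairs F) (r : F), (p.1.1 : Matrix (Fin 2) (Fin 2) F) = r • 1 →
      (p.1.2 : Matrix (Fin 2) (Fin 2) F) = r • 1 → ψ p = 1 := fun p r a b => psiG_scalar a b
  have hI2 : ψ PI * ψ PI = 1 := by
    rw [← map_mul]
    refine hscal _ (-1) ?_ ?_ <;>
    · show ((wG * wG : GL (Fin 2) F) : Matrix (Fin 2) (Fin 2) F) = _
      rw [hww, hn]; simp
  have hcomm : ψ P1 * ψ P2 = ψ P2 * ψ P1 := by
    rw [← map_mul, ← map_mul]; exact congrArg ψ (heq _ _ (huv.trans hvu.symm) rfl)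
  have hW1 : ψ W * ψ P1 * (ψ W)⁻¹ = ψ P2 := by
    rw [← map_inv, ← map_mul, ← map_mul]
    exact congrArg ψ (heq _ _ rfl (by show 1 * u * 1⁻¹ = u; group))
  have hWW : ψ W * ψ W = ψ Zp := by
    rw [← map_mul]; exact congrArg ψ (heq _ _ hww (one_mul 1))
  have hZc : ∀ p : DetPairs F, ψ Zp * ψ p = ψ p * ψ Zp := fun p => by
    rw [← map_mul, ← map_mul]
    refine congrArg ψ (heq _ _ ?_ ?_)
    · show nG * p.1.1 = p.1.1 * nG; exact Units.ext (by simp [hn])
    · show 1 * p.1.2 = p.1.2 * 1; simp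
  have hW2 : ψ W * ψ P2 * (ψ W)⁻¹ = ψ P1 := by
    rw [← hW1, show ψ W * (ψ W * ψ P1 * (ψ W)⁻¹) * (ψ W)⁻¹ = (ψ W * ψ W) * ψ P1 * (ψ W * ψ W)⁻¹ by group,
      hWW, hZc]
    group
  have hI1 : ψ PI * ψ P1 * (ψ PI)⁻¹ = (ψ P1)⁻¹ := by
    refine eq_inv_of_mul_eq_one_left ?_
    rw [← map_inv, ← map_mul, ← map_mul, ← map_mul]
    refine hscal _ (2 + t) ?_ ?_ <;>
    · show ((v * u : GL (Fin 2) F) : Matrix (Fin 2) (Fin 2) F) = _
      rw [hvu]
  have hIW : ψ PI * ψ W = ψ W * ψ PI := by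
    rw [← map_mul, ← map_mul]
    exact congrArg ψ (heq _ _ rfl (by show wG * 1 = 1 * wG; simp))
  have hI2' : ψ PI * ψ P2 * (ψ PI)⁻¹ = (ψ P2)⁻¹ := by
    rw [← hW1, show ψ PI * (ψ W * ψ P1 * (ψ W)⁻¹) * (ψ PI)⁻¹ =
      (ψ PI * ψ W) * ψ P1 * (ψ PI * ψ W)⁻¹ by group, hIW,
      show ψ W * ψ PI * ψ P1 * (ψ W * ψ PI)⁻¹ = ψ W * (ψ PI * ψ P1 * (ψ PI)⁻¹) * (ψ W)⁻¹ by group, hI1]
    group
  have hm : mm k = 2 * (2 * 2 ^ k) := by show 4 * 2 ^ k = _; ring
  have hpow1 : ψ P1 ^ mm k = 1 := by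
    rw [← map_pow]
    refine hscal _ (-((2 + t) ^ (2 * 2 ^ k))) ?_ ?_ <;>
    · show ((u ^ mm k : GL (Fin 2) F) : Matrix (Fin 2) (Fin 2) F) = _
      rw [hm, pow_mul, pow_two, huu, (show Commute cG L from (hLc cG).symm).mul_pow, ← map_pow, hc,
        Units.val_mul, Units.val_pow_eq_pow_val]
      show (-1 : SL(2, F)).1 * ((2 + t) • (1 : Matrix (Fin 2) (Fin 2) F)) ^ (2 * 2 ^ k) = _
      rw [smul_pow, one_pow, show (-1 : SL(2, F)).1 = -1 from rfl, mul_smul_comm, mul_one, neg_smul, smul_neg]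
  have hpow2 : ψ P2 ^ mm k = 1 := by
    rw [← hW1, conj_pow, hpow1, mul_one, mul_inv_cancel]
  have hh2 : ψ P1 ^ (2 * 2 ^ k) * ψ P2 ^ (2 * 2 ^ k) = ψ Zp := by
    rw [← (show Commute (ψ P1) (ψ P2) from hcomm).mul_pow, ← map_mul, ← map_pow]
    have e : ψ ((P1 * P2) ^ (2 * 2 ^ k) * Zp⁻¹) = 1 := by
      refine hscal _ (-((2 + t) ^ (2 * 2 ^ k))) ?_ ?_
      · show (((u * v) ^ (2 * 2 ^ k) * nG⁻¹ : GL (Fin 2) F) : Matrix (Fin 2) (Fin 2) F) = _
        rw [huv, show nG⁻¹ = nG from inv_eq_of_mul_eq_one_right hn2, Units.val_mul, hn,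
          Units.val_pow_eq_pow_val]
        show ((2 + t) • (1 : Matrix (Fin 2) (Fin 2) F)) ^ (2 * 2 ^ k) * (-1) = _
        rw [smul_pow, one_pow, mul_neg, mul_one, neg_smul]
      · show (((u * u) ^ (2 * 2 ^ k) * (1 : GL (Fin 2) F)⁻¹ : GL (Fin 2) F) : Matrix (Fin 2) (Fin 2) F) = _
        rw [inv_one, mul_one, huu, (show Commute cG L from (hLc cG).symm).mul_pow, ← map_pow, hc,
          Units.val_mul, Units.val_pow_eq_pow_val]
        show (-1 : SL(2, F)).1 * ((2 + t) • (1 : Matrix (Fin 2) (Fin 2) F)) ^ (2 * 2 ^ k) = _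
        rw [smul_pow, one_pow, show (-1 : SL(2, F)).1 = -1 from rfl, mul_smul_comm, mul_one, neg_smul, smul_neg]
    rwa [map_mul, map_inv, mul_inv_eq_one] at e
  have hZ2 : ψ Zp * ψ Zp = 1 := by
    rw [← map_mul, show Zp * Zp = 1 from heq _ _ hn2 (one_mul 1), map_one]
  have hE : ψ P1 ^ (2 * 2 ^ k) * ψ P1 ^ (2 * 2 ^ k) = 1 := by rw [← pow_add, ← two_mul, ← hm, hpow1]
  let S' := ψ W * ψ P1 ^ (2 * 2 ^ k)
  let gens : Gens k ↥(chevG2.group F) :=
    { E1 := ψ P1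
      E2 := ψ P2
      I := ψ PI
      S := S'
      comm := hcomm
      pow1 := hpow1
      pow2 := hpow2
      ii := hI2
      ss := by
        show ψ W * ψ P1 ^ _ * (ψ W * ψ P1 ^ _) = 1
        rw [show ψ W * ψ P1 ^ (2 * 2 ^ k) * (ψ W * ψ P1 ^ (2 * 2 ^ k)) =
          ψ W * ψ P1 ^ (2 * 2 ^ k) * (ψ W)⁻¹ * ((ψ W * ψ W) * ψ P1 ^ (2 * 2 ^ k)) by group,
          ← conj_pow, hW1, hWW, ← map_pow ψ P1, hZc, map_pow, ← mul_assoc,
          (show Commute (ψ P2) (ψ P1) from hcomm.symm).pow_pow _ _, hh2, hZ2]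
      si := by
        show ψ W * ψ P1 ^ _ * ψ PI = ψ PI * (ψ W * ψ P1 ^ _)
        rw [← mul_assoc (ψ PI), hIW, mul_assoc, mul_assoc]
        refine congrArg (ψ W * ·) ?_
        have h : ψ PI * ψ P1 ^ (2 * 2 ^ k) * (ψ PI)⁻¹ = ψ P1 ^ (2 * 2 ^ k) := by
          rw [← conj_pow, hI1, inv_pow]
          exact inv_eq_of_mul_eq_one_right hE
        exact (mul_inv_eq_iff_eq_mul.1 h).symm
      i1 := hI1
      i2 := hI2'
      s1 := by
        show ψ W * ψ P1 ^ _ * ψ P1 * (ψ W * ψ P1 ^ _)⁻¹ = ψ P2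
        rw [← hW1]; group
      s2 := by
        show ψ W * ψ P1 ^ _ * ψ P2 * (ψ W * ψ P1 ^ _)⁻¹ = ψ P1
        rw [show ψ W * ψ P1 ^ (2 * 2 ^ k) * ψ P2 * (ψ W * ψ P1 ^ (2 * 2 ^ k))⁻¹ =
          ψ W * (ψ P1 ^ (2 * 2 ^ k) * ψ P2 * (ψ P1 ^ (2 * 2 ^ k))⁻¹) * (ψ W)⁻¹ by group,
          ((show Commute (ψ P1) (ψ P2) from hcomm).pow_left _).eq, mul_inv_cancel_right, hW2] }
  refine ⟨gens.hom, GT.injective_of _ ?_⟩
  rw [Gens.hom_Z]
  show ψ P1 ^ _ * ψ P2 ^ _ ≠ 1
  rw [hh2]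
  intro e
  have e' : psi0 Zp = 1 := congrArg Subtype.val e
  rw [psi0] at e'
  have hd : dt nG = 1 := by rw [dt, hn]; simp [det_neg]
  have hs1 : slPart nG = -1 := by
    refine Subtype.ext ?_
    ext i j; fin_cases i <;> fin_cases j <;> simp [slPart, hd, hn]
  have hs2 : slPart (1 : GL (Fin 2) F) = 1 := by
    refine Subtype.ext ?_
    ext i j; fin_cases i <;> fin_cases j <;> simp [slPart, dt]
  change phi 7 (slPart nG) * phi 11 (slPart 1) * hU chevG2 10 (dt nG) = 1 at e'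
  rw [hs1, hs2, hd, map_one, mul_one, hU_one (by norm_num), mul_one, phi_neg_one (by simp)] at e'
  exact zI_ne_one h2 e'

/-- The Sylow 2-subgroups are of shape `GT k`. -/
theorem sylow_equiv (hodd : Odd (Fintype.card F)) (P : Sylow 2 ↥(chevG2.group F)) :
    ∃ k : ℕ, Nonempty (GT k ≃* ↥(P : Subgroup ↥(chevG2.group F))) := by
  classical
  haveI := Fact.mk Nat.prime_two
  obtain ⟨k, hk, f, hf⟩ := exists_hom hodd
  refine ⟨k, ?_⟩
  obtain ⟨q, hq⟩ : ∃ q, Fintype.card F = q := ⟨_, rfl⟩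
  rw [hq] at hk hodd
  have hq1 : 1 < q := hq ▸ Fintype.one_lt_card
  have hcard : (Nat.card ↥(chevG2.group F)).factorization 2 = 2 * k + 6 := by
    rw [Cfsg.Agent.S1059.result hq]
    have e : q ^ 6 - 1 = (q ^ 2 - 1) * (q ^ 4 + q ^ 2 + 1) := by
      zify [Nat.one_le_pow 2 q (by omega), Nat.one_le_pow 6 q (by omega)]; ring
    have hne : q ^ 2 - 1 ≠ 0 := by
      have : 1 < q ^ 2 := Nat.one_lt_pow (by norm_num) hq1
      omega
    have ho : ¬ 2 ∣ q ^ 4 + q ^ 2 + 1 := by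
      rw [← even_iff_two_dvd, Nat.not_even_iff_odd]
      exact ((hodd.pow).add_odd (hodd.pow)).add_odd odd_one
    rw [e, Nat.factorization_mul (mul_ne_zero (pow_ne_zero _ (by omega)) hne)
        (mul_ne_zero hne (by positivity)), Nat.factorization_mul (pow_ne_zero _ (by omega)) hne,
      Nat.factorization_mul hne (by positivity), Nat.factorization_pow]
    simp only [Finsupp.add_apply, Finsupp.smul_apply, smul_eq_mul, hk,
      Nat.factorization_eq_zero_of_not_dvd (fun h => Nat.not_even_iff_odd.2 hodd (even_iff_two_dvd.2 h)),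
      Nat.factorization_eq_zero_of_not_dvd ho]
    omega
  have hfr : Nat.card f.range = 2 ^ (Nat.card ↥(chevG2.group F)).factorization 2 := by
    rw [hcard, ← GT.card_eq]
    exact Nat.card_congr (MonoidHom.ofInjective hf).toEquiv.symm
  let Q : Sylow 2 ↥(chevG2.group F) := Sylow.ofCard f.range hfr
  exact ⟨(MonoidHom.ofInjective hf).trans ((MulEquiv.subgroupCongr (Sylow.coe_ofCard _ hfr).symm).trans (Q.equiv P))⟩

end CfsgLib.GTwoSyl
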