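import Mathlib

/-!
The group `(C_m × C_m) ⋊ ⟨-1, swap⟩`, `m = 4 * 2 ^ k`: the shape of a Sylow 2-subgroup of `G₂(q)`, `q` odd.
-/

set_option autoImplicit false
set_option linter.style.haveILetI false
set_option linter.unusedSectionVars false

namespace CfsgLib.GTwoSyl

/-- The modulus. -/
abbrev mm (k : ℕ) : ℕ := 4 * 2 ^ k

/-- The scalars. -/
abbrev Rk (k : ℕ) : Type := ZMod (mm k)

/-- Elements `a(x,y) i^e s^d`. -/
@[ext] structure GT (k : ℕ) where
  x : Rk k
  y : Rk k
  e : Bool
  d : Bool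
deriving DecidableEq

variable {k : ℕ}

/-- The action of `i^e`. -/
def sg (e : Bool) (x : Rk k) : Rk k := if e then -x else x

namespace GT

instance : Mul (GT k) :=
  ⟨fun g h => ⟨g.x + sg g.e (if g.d then h.y else h.x), g.y + sg g.e (if g.d then h.x else h.y),
    g.e ^^ h.e, g.d ^^ h.d⟩⟩

instance : One (GT k) := ⟨⟨0, 0, false, false⟩⟩

instance : Inv (GT k) :=
  ⟨fun g => ⟨-sg g.e (if g.d then g.y else g.x), -sg g.e (if g.d then g.x else g.y), g.e, g.d⟩⟩

theorem mul_def (g h : GT k) : g * h =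
    ⟨g.x + sg g.e (if g.d then h.y else h.x), g.y + sg g.e (if g.d then h.x else h.y),
      g.e ^^ h.e, g.d ^^ h.d⟩ := rfl

theorem one_def : (1 : GT k) = ⟨0, 0, false, false⟩ := rfl

instance : Group (GT k) where
  mul_assoc a b c := by
    rcases a with ⟨x, y, e, d⟩
    rcases b with ⟨x', y', e', d'⟩
    rcases c with ⟨x'', y'', e'', d''⟩
    cases e <;> cases d <;> cases e' <;> cases d' <;>
      simp [mul_def, sg, add_assoc, add_comm, add_left_comm]
  one_mul a := by simp [mul_def, one_def, sg]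
  mul_one a := by
    rcases a with ⟨x, y, e, d⟩
    cases e <;> cases d <;> simp [mul_def, one_def, sg]
  inv_mul_cancel a := by
    rcases a with ⟨x, y, e, d⟩
    cases e <;> cases d <;> simp [mul_def, one_def, sg, Inv.inv]

/-- As a product type. -/
def equiv (k : ℕ) : GT k ≃ (Rk k × Rk k) × (Bool × Bool) where
  toFun g := ((g.x, g.y), (g.e, g.d))
  invFun p := ⟨p.1.1, p.1.2, p.2.1, p.2.2⟩
  left_inv _ := rfl
  right_inv _ := rfl

instance : Finite (GT k) := Finite.of_equiv _ (equiv k).symm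

theorem card_eq : Nat.card (GT k) = 2 ^ (2 * k + 6) := by
  rw [Nat.card_congr (equiv k), Nat.card_prod, Nat.card_prod, Nat.card_prod, Nat.card_zmod,
    Nat.card_eq_fintype_card, Fintype.card_bool]
  ring

theorem isPGroup : IsPGroup 2 (GT k) := by
  haveI := Fact.mk Nat.prime_two
  exact IsPGroup.of_card card_eq

/-- `a(x,y)`. -/
def A (x y : Rk k) : GT k := ⟨x, y, false, false⟩

/-- `i`. -/
def I : GT k := ⟨0, 0, true, false⟩

/-- `s`. -/
def S : GT k := ⟨0, 0, false, true⟩

/-- The element `2 ^ (k + 1)` of order two. -/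
def hh (k : ℕ) : Rk k := ((2 * 2 ^ k : ℕ) : Rk k)

/-- The central involution. -/
def Z : GT k := A (hh k) (hh k)

theorem A_mul (x y x' y' : Rk k) : A x y * A x' y' = A (x + x') (y + y') := by
  simp [mul_def, A, sg]

theorem hh_add : hh k + hh k = 0 := by
  rw [hh, ← Nat.cast_add, show 2 * 2 ^ k + 2 * 2 ^ k = mm k by ring, ZMod.natCast_self]

theorem neg_hh : -hh k = hh k := neg_eq_of_add_eq_zero_left hh_add

theorem hh_ne : hh k ≠ 0 := by
  rw [hh, Ne, ZMod.natCast_eq_zero_iff]
  intro h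
  have hp : 0 < 2 ^ k := by positivity
  exact absurd (Nat.le_of_dvd (by positivity) h) (by show ¬ 4 * 2 ^ k ≤ 2 * 2 ^ k; omega)

theorem two_tors {x : Rk k} : x + x = 0 ↔ x = 0 ∨ x = hh k := by
  haveI : NeZero (mm k) := ⟨by positivity⟩
  constructor
  · intro h
    have hv : (mm k) ∣ x.val + x.val := by
      rw [← ZMod.natCast_eq_zero_iff, Nat.cast_add, ZMod.natCast_zmod_val, h]
    obtain ⟨c, hc⟩ := hv
    have hlt := ZMod.val_lt x
    have : c = 0 ∨ c = 1 := by
      rcases c with _ | _ | c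
      · exact Or.inl rfl
      · exact Or.inr rfl
      · exfalso; rw [Nat.mul_succ, Nat.mul_succ] at hc; omega
    rcases this with rfl | rfl
    · exact Or.inl ((ZMod.val_eq_zero x).1 (by omega))
    · refine Or.inr ?_
      rw [hh, ← ZMod.natCast_zmod_val x]
      congr 1
      simp only [mm] at hc; omega
  · rintro (rfl | rfl)
    · simp
    · exact hh_add

/-- Parity. -/
def par (k : ℕ) : Rk k →+* ZMod 2 := ZMod.castHom ⟨2 * 2 ^ k, by ring⟩ (ZMod 2)

theorem par_eq_zero {x : Rk k} : par k x = 0 ↔ ∃ w, x = w + w := by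
  haveI : NeZero (mm k) := ⟨by positivity⟩
  constructor
  · intro h
    rw [← ZMod.natCast_zmod_val x, map_natCast, ZMod.natCast_eq_zero_iff] at h
    obtain ⟨c, hc⟩ := h
    exact ⟨c, by rw [← ZMod.natCast_zmod_val x, hc]; push_cast; ring⟩
  · rintro ⟨w, rfl⟩
    rw [map_add]; exact CharTwo.add_self_eq_zero _

theorem par_hh : par k (hh k) = 0 :=
  par_eq_zero.2 ⟨((2 ^ k : ℕ) : Rk k), by rw [hh]; push_cast; ring⟩

theorem center_eq {g : GT k} (h : ∀ u : GT k, u * g = g * u) : g = 1 ∨ g = Z := by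
  rcases g with ⟨x, y, e, d⟩
  have h1 := h (A 1 0)
  have h2 := h I
  have h3 := h S
  have hone : (1 : Rk k) + 1 ≠ 0 := by
    intro e
    rcases two_tors.1 e with e1 | e1
    · have : (1 : ZMod 2) = 0 := by
        have := congrArg (par k) e1; rwa [map_one, map_zero] at this
      exact one_ne_zero this
    · have := congrArg (par k) e1
      rw [par_hh, map_one] at this
      exact one_ne_zero this
  have hone' : (1 : Rk k) ≠ 0 := fun e => hone (by rw [e, add_zero])
  cases e <;> cases d <;> simp [mul_def, A, I, S, sg] at h1 h2 h3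
  · rcases (two_tors (x := x)).1 (by linear_combination (-1 : Rk k) * h2.1) with hx | hx <;>
      [left; right] <;> simp [one_def, Z, A, hx, h3]
  · exact absurd (by linear_combination h1) hone'
  · exact absurd (by linear_combination h1) hone
  · exact absurd (by linear_combination h1) hone'

/-- A homomorphism not killing `Z` is injective. -/
theorem injective_of {H : Type*} [Group H] (f : GT k →* H) (hf : f Z ≠ 1) : Function.Injective f := by
  haveI := Fact.mk Nat.prime_two
  rw [← MonoidHom.ker_eq_bot_iff]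
  by_contra hK
  obtain ⟨g, hg, hg1⟩ := Subgroup.ne_bot_iff_exists_ne_one.1 (show f.ker ≠ ⊥ from hK) |> fun ⟨a, b⟩ =>
    (⟨a.1, a.2, fun e => b (Subtype.ext e)⟩ : ∃ g, g ∈ f.ker ∧ g ≠ 1)
  have h2 : 2 ∣ Nat.card f.ker := by
    obtain ⟨j, hj⟩ := (isPGroup.to_subgroup f.ker).exists_card_eq
    rcases j with _ | j
    · rw [pow_zero, Subgroup.card_eq_one] at hj
      exact absurd hj hK
    · exact ⟨2 ^ j, by rw [hj, pow_succ, mul_comm]⟩
  have hconj : IsPGroup 2 (ConjAct (GT k)) := isPGroup.of_equiv ConjAct.toConjAct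
  obtain ⟨b, hb, hb1⟩ := hconj.exists_fixed_point_of_prime_dvd_card_of_fixed_point
    (α := f.ker) h2 (a := 1) (fun u => smul_one u)
  have hc : ∀ u : GT k, u * (b : GT k) = b * u := fun u => by
    have := congrArg (fun v : f.ker => (v : GT k)) (hb (ConjAct.toConjAct u))
    change u * (b : GT k) * u⁻¹ = b at this
    rwa [mul_inv_eq_iff_eq_mul] at this
  rcases center_eq hc with e | e
  · exact hb1 (Subtype.ext e.symm)
  · exact hf (by rw [← e]; exact b.2)

end GT

end CfsgLib.GTwoSyl
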